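import Mathlib
import Groth.Agent.H18.QCohLocalize

/-!
Lead library (Stein factorisation / Zariski connectedness): elementary calculus of sections of
`O_X`-modules: restriction commutes with morphisms, locally zero sections vanish, gluing over a
cover by two opens.
-/

set_option autoImplicit false
universe u
open CategoryTheory Limits AlgebraicGeometry Opposite TopologicalSpace

namespace Groth.Agent.Lead.Stein

open Groth.Agent.H18

variable {X : Scheme.{u}}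

/-- morphisms of modules commute with restriction of sections -/
theorem app_mres {M N : X.Modules} (φ : M ⟶ N) {W W' : X.Opens} (h : W' ≤ W) (s : Γ(M, W)) :
    φ.app W' (mres M h s) = mres N h (φ.app W s) := by
  have h1 := φ.mapPresheaf.naturality (homOfLE h).op
  exact ConcreteCategory.congr_hom h1 s

/-- the abelian sheaf underlying a module, in `TopCat.Sheaf` form -/
noncomputable abbrev shf (F : X.Modules) : TopCat.Sheaf AddCommGrpCat X.toTopCat :=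
  ⟨F.presheaf, F.isSheaf⟩

/-- a section vanishing locally vanishes -/
theorem sec_eq_zero_of_locally (F : X.Modules) (U : X.Opens) (s : Γ(F, U))
    (h : ∀ x ∈ U, ∃ (W : X.Opens) (hW : W ≤ U), x ∈ W ∧ mres F hW s = 0) : s = 0 := by
  choose W hW hxW hs using h
  refine TopCat.Sheaf.eq_of_locally_eq' (shf F) (fun x : U => W x.1 x.2) U
    (fun x => homOfLE (hW x.1 x.2)) ?_ s 0 (fun x => ?_)
  · intro x hx
    exact Opens.mem_iSup.mpr ⟨⟨x, hx⟩, hxW x hx⟩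
  · rw [map_zero]
    exact hs x.1 x.2

/-- two sections agreeing on a cover by two opens are equal -/
theorem sec_ext₂ (F : X.Modules) (U₁ U₂ : X.Opens) (hcov : U₁ ⊔ U₂ = ⊤) (s t : Γ(F, ⊤))
    (h₁ : mres F (le_top : U₁ ≤ ⊤) s = mres F (le_top : U₁ ≤ ⊤) t)
    (h₂ : mres F (le_top : U₂ ≤ ⊤) s = mres F (le_top : U₂ ≤ ⊤) t) : s = t := by
  refine TopCat.Sheaf.eq_of_locally_eq' (shf F) (fun b : ULift.{u} Bool => cond b.down U₁ U₂) ⊤
    (fun b => homOfLE le_top) ?_ s t (fun b => ?_)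
  · intro x _
    have hx : x ∈ U₁ ⊔ U₂ := by rw [hcov]; trivial
    rcases hx with hx | hx
    · exact Opens.mem_iSup.mpr ⟨⟨true⟩, hx⟩
    · exact Opens.mem_iSup.mpr ⟨⟨false⟩, hx⟩
  · rcases b with ⟨_ | _⟩
    · exact h₂
    · exact h₁

/-- gluing two sections over a cover of the whole space by two opens -/
theorem exists_glue₂ (F : X.Modules) (U₁ U₂ : X.Opens) (hcov : U₁ ⊔ U₂ = ⊤)
    (s₁ : Γ(F, U₁)) (s₂ : Γ(F, U₂))
    (h : mres F (inf_le_left : U₁ ⊓ U₂ ≤ U₁) s₁ = mres F (inf_le_right : U₁ ⊓ U₂ ≤ U₂) s₂) :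
    ∃ s : Γ(F, ⊤), mres F (le_top : U₁ ≤ ⊤) s = s₁ ∧ mres F (le_top : U₂ ≤ ⊤) s = s₂ := by
  let W : ULift.{u} Bool → X.Opens := fun b => cond b.down U₁ U₂
  let σ : ∀ b, Γ(F, W b) := fun b => match b with
    | ⟨true⟩ => s₁
    | ⟨false⟩ => s₂
  have hcover : (⊤ : X.Opens) ≤ iSup W := by
    intro x _
    have hx : x ∈ U₁ ⊔ U₂ := by rw [hcov]; trivial
    rcases hx with hx | hx
    · exact Opens.mem_iSup.mpr ⟨⟨true⟩, hx⟩
    · exact Opens.mem_iSup.mpr ⟨⟨false⟩, hx⟩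
  have hcompat : TopCat.Presheaf.IsCompatible (shf F).1 W σ := by
    rintro ⟨_ | _⟩ ⟨_ | _⟩
    · rfl
    · change mres F (inf_le_left : U₂ ⊓ U₁ ≤ U₂) s₂ = mres F (inf_le_right : U₂ ⊓ U₁ ≤ U₁) s₁
      have e : U₂ ⊓ U₁ = U₁ ⊓ U₂ := inf_comm _ _
      have h1 : mres F (inf_le_left : U₂ ⊓ U₁ ≤ U₂) s₂ =
          mres F (e.le : U₂ ⊓ U₁ ≤ U₁ ⊓ U₂) (mres F (inf_le_right : U₁ ⊓ U₂ ≤ U₂) s₂) := by
        rw [mres_mres]
      have h2 : mres F (inf_le_right : U₂ ⊓ U₁ ≤ U₁) s₁ =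
          mres F (e.le : U₂ ⊓ U₁ ≤ U₁ ⊓ U₂) (mres F (inf_le_left : U₁ ⊓ U₂ ≤ U₁) s₁) := by
        rw [mres_mres]
      rw [h1, h2, h]
    · exact h
    · rfl
  obtain ⟨s, hs, -⟩ := TopCat.Sheaf.existsUnique_gluing' (shf F) W ⊤ (fun b => homOfLE le_top)
    hcover σ hcompat
  exact ⟨s, hs ⟨true⟩, hs ⟨false⟩⟩

end Groth.Agent.Lead.Stein
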