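import Mathlib
import Groth.Prelude.Def_Formal
import Groth.Agent.Lead.Stein.Sections
import Groth.Agent.H70.Rees.IdealMulSections
import Groth.Agent.H11.FlatModPowSch
import Groth.Agent.H12.QCohAbelian

/-!
Lead library (Stein factorisation / Zariski connectedness): sections of `M / I^n M` near and away
from the closed fibre of a scheme over a local ring.
-/

set_option autoImplicit false
universe u
open CategoryTheory Limits AlgebraicGeometry Opposite TopologicalSpace

namespace Groth.Agent.Lead.Stein

open Groth.Agent.H18 Groth.Agent.H70.Rees Groth.Agent.Lead.SubRange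

variable {A : Type u} [CommRing A] {X : Scheme.{u}} [X.Over (Spec (CommRingCat.of A))]

variable (A X) in
/-- the closed fibre of a scheme over a local ring, as a subset -/
def closedFibre [IsLocalRing A] : Set X :=
  (X ↘ Spec (CommRingCat.of A)) ⁻¹' {IsLocalRing.closedPoint A}

theorem isClosed_closedFibre [IsLocalRing A] : IsClosed (closedFibre A X) :=
  (IsLocalRing.isClosed_singleton_closedPoint A).preimage
    (X ↘ Spec (CommRingCat.of A)).continuous

/-- the kernel of `M ⟶ M / I^n M` on sections over an affine open is `I^n Γ(U, M)` -/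
theorem mem_smul_top_of_modPowπ_app_eq_zero (I : Ideal A) (n : ℕ) (M : X.Modules)
    [M.IsQuasicoherent] {U : X.Opens} (hU : IsAffineOpen U) (s : Γ(M, U))
    (hs : (Formal.modPowπ I n M).app U s = 0) :
    s ∈ ((I ^ n).map (toSections X U)) • (⊤ : Submodule Γ(X, U) Γ(M, U)) := by
  rw [← rng_idealMulι (I ^ n) M hU]
  have hex : (ShortComplex.mk (CohIII.idealMulι (I ^ n) M) (Formal.modPowπ I n M)
      (by
        change Limits.image.ι (Formal.smulFamily (I ^ n) M) ≫
          cokernel.π (Formal.smulFamily (I ^ n) M) = 0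
        rw [← cancel_epi (factorThruImage (Formal.smulFamily (I ^ n) M)), image.fac_assoc,
          cokernel.condition, comp_zero])).Exact := by
    let S₁ : ShortComplex X.Modules := ShortComplex.mk (Formal.smulFamily (I ^ n) M)
      (cokernel.π (Formal.smulFamily (I ^ n) M)) (cokernel.condition _)
    let S₂ : ShortComplex X.Modules := ShortComplex.mk (CohIII.idealMulι (I ^ n) M)
      (Formal.modPowπ I n M) (by
        change Limits.image.ι (Formal.smulFamily (I ^ n) M) ≫
          cokernel.π (Formal.smulFamily (I ^ n) M) = 0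
        rw [← cancel_epi (factorThruImage (Formal.smulFamily (I ^ n) M)), image.fac_assoc,
          cokernel.condition, comp_zero])
    let φ : S₁ ⟶ S₂ :=
      { τ₁ := factorThruImage (Formal.smulFamily (I ^ n) M)
        τ₂ := 𝟙 _
        τ₃ := 𝟙 _
        comm₁₂ := by
          change factorThruImage (Formal.smulFamily (I ^ n) M) ≫
            Limits.image.ι (Formal.smulFamily (I ^ n) M) = Formal.smulFamily (I ^ n) M ≫ 𝟙 _
          rw [image.fac, Category.comp_id]
        comm₂₃ := by
          change 𝟙 _ ≫ cokernel.π (Formal.smulFamily (I ^ n) M) =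
            cokernel.π (Formal.smulFamily (I ^ n) M) ≫ 𝟙 _
          rw [Category.id_comp, Category.comp_id] }
    haveI : Epi φ.τ₁ := (inferInstance : Epi (factorThruImage (Formal.smulFamily (I ^ n) M)))
    haveI : IsIso φ.τ₂ := (inferInstance : IsIso (𝟙 _))
    haveI : Mono φ.τ₃ := (inferInstance : Mono (𝟙 _))
    exact (ShortComplex.exact_iff_of_epi_of_isIso_of_mono φ).1 (ShortComplex.exact_cokernel _)
  haveI : Mono (ShortComplex.mk (CohIII.idealMulι (I ^ n) M) (Formal.modPowπ I n M) _).f :=
    (inferInstance : Mono (CohIII.idealMulι (I ^ n) M))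
  obtain ⟨t, ht⟩ := Groth.Agent.H12.QCohAbelian.app_exact_of_exact_of_mono _ hex U s hs
  exact ⟨t, ht⟩

/-- a point outside the closed fibre lies in the nonvanishing locus of an element of the maximal
ideal -/
theorem exists_mem_basicOpen_of_notMem_closedFibre [IsLocalRing A] (x : X)
    (hx : x ∉ closedFibre A X) :
    ∃ a ∈ IsLocalRing.maximalIdeal A,
      x ∈ X.basicOpen (Coh.toGlobal (X ↘ Spec (CommRingCat.of A)) a) := by
  set f := X ↘ Spec (CommRingCat.of A) with hf
  have hq : f x ≠ IsLocalRing.closedPoint A := hx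
  have h1 : ¬ ((IsLocalRing.maximalIdeal A : Set A) ⊆ (f x).asIdeal) := by
    intro hle
    apply hq
    apply PrimeSpectrum.ext
    exact le_antisymm (IsLocalRing.le_maximalIdeal (f x).isPrime.ne_top) hle
  obtain ⟨a, ham, haq⟩ := Set.not_subset.mp h1
  refine ⟨a, ham, ?_⟩
  have h2 : f x ∈ (Spec (CommRingCat.of A)).basicOpen
      ((Scheme.ΓSpecIso (CommRingCat.of A)).inv a) := by
    rw [basicOpen_eq_of_affine]
    exact haq
  have h3 : x ∈ f ⁻¹ᵁ ((Spec (CommRingCat.of A)).basicOpen
      ((Scheme.ΓSpecIso (CommRingCat.of A)).inv a)) := h2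
  rw [Scheme.preimage_basicOpen] at h3
  exact h3

/-- the restriction of `a` to an open inside its nonvanishing locus is a unit -/
theorem isUnit_toSections_of_le_basicOpen (a : A) {U : X.Opens}
    (hU : U ≤ X.basicOpen (Coh.toGlobal (X ↘ Spec (CommRingCat.of A)) a)) :
    IsUnit (toSections X U a) := by
  set r : Γ(X, ⊤) := Coh.toGlobal (X ↘ Spec (CommRingCat.of A)) a with hr
  have h1 : IsUnit ((X.presheaf.map (homOfLE (X.basicOpen_le r)).op).hom r) :=
    X.toRingedSpace.isUnit_res_basicOpen r
  have h2 : toSections X U a =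
      (X.presheaf.map (homOfLE hU).op).hom
        ((X.presheaf.map (homOfLE (X.basicOpen_le r)).op).hom r) :=
    ConcreteCategory.congr_hom
      (X.presheaf.map_comp (homOfLE (X.basicOpen_le r)).op (homOfLE hU).op) r
  rw [h2]
  exact h1.map _

/-- `M / I^n M` has no sections over opens on which an element of `I` is invertible -/
theorem modPowπ_app_eq_zero_of_le_basicOpen (I : Ideal A) (n : ℕ) (M : X.Modules) (a : A)
    (ha : a ∈ I) {U : X.Opens}
    (hU : U ≤ X.basicOpen (Coh.toGlobal (X ↘ Spec (CommRingCat.of A)) a)) (s : Γ(M, U)) :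
    (Formal.modPowπ I n M).app U s = 0 := by
  obtain ⟨v, hv⟩ := (isUnit_toSections_of_le_basicOpen a hU).exists_left_inv
  have h1 : s = toSections X U (a ^ n) • (v ^ n • s) := by
    rw [map_pow, ← mul_smul, ← mul_pow, mul_comm, hv, one_pow, one_smul]
  have h2 : toSections X U (a ^ n) • (v ^ n • s) =
      (Formal.smulMod A M (a ^ n)).app U (v ^ n • s) := (smulMod_app_apply M (a ^ n) U _).symm
  rw [h1, h2, ← ConcreteCategory.comp_apply, ← Scheme.Modules.Hom.comp_app,
    Groth.Agent.H44.smulMod_comp_modPowπ_of_mem I n M (a ^ n) (Ideal.pow_mem_pow ha n)]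
  rfl

theorem toSections_eq_sec (U : X.Opens) :
    toSections X U =
      (Groth.Agent.H11.FlatModPowSch.sec A (X ↘ Spec (CommRingCat.of A)) U).hom := by
  ext a
  rfl

/-- a function on an affine open whose class in `O / I O` vanishes lies in the prime ideal of
every point of the closed fibre -/
theorem mem_primeIdealOf_of_modPowπ_app_eq_zero [IsLocalRing A] (I : Ideal A)
    (hI : I ≤ IsLocalRing.maximalIdeal A) [(Coh.structureModule X).IsQuasicoherent]
    {U : X.Opens} (hU : IsAffineOpen U) (z : X) (hzU : z ∈ U) (hz : z ∈ closedFibre A X)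
    (u : Γ(Coh.structureModule X, U))
    (hu : (Formal.modPowπ I 1 (Coh.structureModule X)).app U u = 0) :
    (show Γ(X, U) from u) ∈ (hU.primeIdealOf ⟨z, hzU⟩).asIdeal := by
  have h1 := mem_smul_top_of_modPowπ_app_eq_zero I 1 (Coh.structureModule X) hU u hu
  have hle : (I ^ 1).map (toSections X U) ≤ (hU.primeIdealOf ⟨z, hzU⟩).asIdeal := by
    rw [pow_one, toSections_eq_sec]
    exact (Ideal.map_mono hI).trans
      (Groth.Agent.H11.FlatModPowSch.map_maximalIdeal_le A _ hU z hzU hz)
  refine Submodule.smul_induction_on h1 ?_ ?_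
  · intro r hr m _
    exact Ideal.mul_mem_right _ _ (hle hr)
  · intro x y hx hy
    exact Ideal.add_mem _ hx hy

end Groth.Agent.Lead.Stein
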