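import Mathlib
import Groth.Prelude.Def_Coh
import Groth.Agent.H18.HH0Sections

/-!
Lead library (Stein factorisation): for a proper morphism `f : X ⟶ Y` to a locally Noetherian scheme,
`O_Y(U) → O_X(f⁻¹U)` is a finite ring map for every affine open `U`, assuming finiteness of
`H^0(X, O_X)` over a Noetherian affine base (`FinHyp0`, a special case of milestone S0002).
-/

set_option autoImplicit false
universe u
open CategoryTheory Limits AlgebraicGeometry Opposite TopologicalSpace

namespace Groth.Agent.Lead.Stein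

/-- finiteness of `H^0(X, O_X)` for `X` proper over a Noetherian ring (special case of S0002) -/
def FinHyp0 : Prop :=
  ∀ (A : Type u) [CommRing A] [IsNoetherianRing A] (X : Scheme.{u})
    [X.Over (Spec (CommRingCat.of A))] [IsProper (X ↘ Spec (CommRingCat.of A))],
    Module.Finite A (Coh.HH X (Coh.structureModule X) 0)

theorem toGlobal_comp_toSpecΓ {X S : Scheme.{u}} (f : X ⟶ S) (r : Γ(S, ⊤)) :
    Coh.toGlobal (A := Γ(S, ⊤)) (f ≫ S.toSpecΓ) r = f.appTop r := by
  change (f ≫ S.toSpecΓ).appTop ((Scheme.ΓSpecIso (CommRingCat.of Γ(S, ⊤))).inv r) = _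
  rw [Scheme.Hom.comp_appTop, Scheme.toSpecΓ_appTop]
  change f.appTop ((Scheme.ΓSpecIso Γ(S, ⊤)).hom ((Scheme.ΓSpecIso Γ(S, ⊤)).inv r)) = _
  congr 1
  exact congrArg (fun φ => φ.hom r) (Scheme.ΓSpecIso Γ(S, ⊤)).inv_hom_id

/-- global functions of a scheme proper over an affine locally Noetherian scheme are finite over
the base -/
theorem finite_appTop (h : FinHyp0.{u}) {X S : Scheme.{u}} (f : X ⟶ S) [IsProper f] [IsAffine S]
    [IsLocallyNoetherian S] : f.appTop.hom.Finite := by
  haveI : IsNoetherianRing Γ(S, ⊤) :=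
    IsLocallyNoetherian.component_noetherian ⟨⊤, isAffineOpen_top S⟩
  letI : X.Over (Spec (CommRingCat.of Γ(S, ⊤))) := ⟨f ≫ S.toSpecΓ⟩
  haveI : IsProper (X ↘ Spec (CommRingCat.of Γ(S, ⊤))) :=
    (inferInstance : IsProper (f ≫ S.toSpecΓ))
  have hfin : Module.Finite Γ(S, ⊤) (Coh.HH X (Coh.structureModule X) 0) := h Γ(S, ⊤) X
  letI : Algebra Γ(S, ⊤) Γ(X, ⊤) := f.appTop.hom.toAlgebra
  change Module.Finite Γ(S, ⊤) Γ(X, ⊤)
  let L : Coh.HH X (Coh.structureModule X) 0 →ₗ[Γ(S, ⊤)] Γ(X, ⊤) :=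
    { toFun := fun x => Groth.Agent.H18.HH0.equiv (Coh.structureModule X) x
      map_add' := fun x y => map_add (Groth.Agent.H18.HH0.equiv (Coh.structureModule X)) x y
      map_smul' := fun r x => by
        have h1 : r • x = (Coh.toGlobal (A := Γ(S, ⊤)) (f ≫ S.toSpecΓ) r : Coh.Γtop X) • x := rfl
        have h2 := Groth.Agent.H18.HH0.equiv_smul (Coh.structureModule X)
          (Coh.toGlobal (A := Γ(S, ⊤)) (f ≫ S.toSpecΓ) r) x
        refine (congrArg (Groth.Agent.H18.HH0.equiv (Coh.structureModule X)) h1).trans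
          (h2.trans ?_)
        rw [toGlobal_comp_toSpecΓ]
        rfl }
  exact Module.Finite.of_surjective L (Groth.Agent.H18.HH0.equiv (Coh.structureModule X)).surjective

/-- `O_Y(U) → O_X(f⁻¹U)` is finite for `f` proper, `Y` locally Noetherian, `U` affine -/
theorem finite_app (h : FinHyp0.{u}) {X Y : Scheme.{u}} (f : X ⟶ Y) [IsProper f]
    [IsLocallyNoetherian Y] (U : Y.Opens) (hU : IsAffineOpen U) : (f.app U).hom.Finite := by
  haveI : IsAffine U := hU
  have h1 : ((f ∣_ U).app ⊤).hom.Finite := finite_appTop h (f ∣_ U)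
  rw [morphismRestrict_app] at h1
  have h2 : (f.app (U.ι ''ᵁ ⊤)).hom.Finite :=
    (RingHom.finite_respectsIso.cancel_right_isIso _ _).mp h1
  rwa [Scheme.Opens.ι_image_top] at h2

end Groth.Agent.Lead.Stein
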