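import Mathlib
import Groth.Agent.H51.FlatValLift

/-!
Lead library (Zariski connectedness): flat base change of `f_* O_X = O_Y` to an affine scheme.
-/

set_option autoImplicit false
universe u
open CategoryTheory Limits AlgebraicGeometry Opposite TopologicalSpace

namespace Groth.Agent.Lead.Stein

/-- if `O_Y(U) → O_X(f⁻¹U)` is an isomorphism for an affine open `U`, the same holds for the base
change of `f` along a flat morphism from an affine scheme which factors through `U` -/
theorem isIso_appTop_snd_of_flat {X Y T : Scheme.{u}} (f : X ⟶ Y) (t : T ⟶ Y)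
    [QuasiCompact f] [QuasiSeparated f] [Flat t] [IsAffine T]
    (US : Y.Opens) (hUS : IsAffineOpen US) (hT : (⊤ : T.Opens) ≤ t ⁻¹ᵁ US)
    (hf : IsIso (f.app US)) : IsIso (pullback.snd f t).appTop := by
  have H : IsPullback (pullback.fst f t) (pullback.snd f t) f t := IsPullback.of_hasPullback f t
  have hUSX : f ⁻¹ᵁ US ≤ f ⁻¹ᵁ US := le_rfl
  have hUY : (⊤ : (pullback f t).Opens) =
      (pullback.fst f t) ⁻¹ᵁ (f ⁻¹ᵁ US) ⊓ (pullback.snd f t) ⁻¹ᵁ (⊤ : T.Opens) := by
    rw [← Scheme.Hom.comp_preimage, pullback.condition, Scheme.Hom.comp_preimage]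
    apply le_antisymm _ le_top
    refine le_inf ?_ le_rfl
    exact (pullback.snd f t).preimage_mono hT
  have hUX : IsCompact ((f ⁻¹ᵁ US : X.Opens) : Set X) :=
    QuasiCompact.isCompact_preimage (f := f) _ US.isOpen hUS.isCompact
  have hUX' : IsQuasiSeparated ((f ⁻¹ᵁ US : X.Opens) : Set X) :=
    f.isQuasiSeparated_preimage hUS.isQuasiSeparated
  have h1 := isIso_pushoutSection_of_isQuasiSeparated_of_flat_right H hT hUSX hUY hUS
    (isAffineOpen_top T) hUX hUX'
  haveI : IsIso (f.appLE US (f ⁻¹ᵁ US) hUSX) := by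
    rw [Scheme.Hom.appLE_eq_app]; exact hf
  have h2 : (pullback.snd f t).appLE ⊤ ⊤ (by simp) =
      pushout.inr (f.appLE US (f ⁻¹ᵁ US) hUSX) (t.appLE US ⊤ hT) ≫
        pushoutSection H hT hUSX hUY := by
    rw [pushout.inr_desc]
  have h3 : (pullback.snd f t).appTop = (pullback.snd f t).appLE ⊤ ⊤ (by simp) := by
    rw [Scheme.Hom.appTop, Scheme.Hom.app_eq_appLE]
    rfl
  rw [h3, h2]
  infer_instance

end Groth.Agent.Lead.Stein
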