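import Mathlib
import Groth.Agent.Lead.Stein.FiniteApp

/-!
Lead library (Stein factorisation): the relative normalization `Y' = Spec f_* O_X` of a proper
morphism `f : X ⟶ Y`, `Y` locally Noetherian: `Y' ⟶ Y` is finite and `O_{Y'} → f'_* O_X` is an
isomorphism over preimages of affine opens of `Y`.
-/

set_option autoImplicit false
universe u
open CategoryTheory Limits AlgebraicGeometry Opposite TopologicalSpace

namespace Groth.Agent.Lead.Stein

/-- Sections of a universally closed morphism over an affine open are integral over the base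
(as in helper22's `H22/BirNormal`). -/
theorem isIntegral_app_of_universallyClosed {X Y : Scheme.{u}} (f : X ⟶ Y) [UniversallyClosed f]
    (U : Y.Opens) (hU : IsAffineOpen U) : (f.app U).hom.IsIntegral := by
  have : IsAffine U := hU
  have h := isIntegral_appTop_of_universallyClosed (f ∣_ U)
  rw [morphismRestrict_appTop] at h
  have h2 : (f.app (U.ι ''ᵁ ⊤)).hom.IsIntegral := by
    have e : f.app (U.ι ''ᵁ ⊤) = (f.app (U.ι ''ᵁ ⊤) ≫
        X.presheaf.map (eqToHom (image_morphismRestrict_preimage f U ⊤)).op) ≫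
        inv (X.presheaf.map (eqToHom (image_morphismRestrict_preimage f U ⊤)).op) := by simp
    rw [e, CommRingCat.hom_comp]
    refine h.trans _ _ (RingHom.isIntegral_of_surjective _ ?_)
    exact ((ConcreteCategory.isIso_iff_bijective
      (inv (X.presheaf.map (eqToHom (image_morphismRestrict_preimage f U ⊤)).op))).mp
        inferInstance).2
  rwa [Scheme.Opens.ι_image_top] at h2

/-- the relative normalization of a proper morphism to a locally Noetherian scheme is finite over
the base -/
theorem isFinite_fromNormalization (h : FinHyp0.{u}) {X Y : Scheme.{u}} (f : X ⟶ Y) [IsProper f]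
    [IsLocallyNoetherian Y] : IsFinite f.fromNormalization := by
  refine ⟨fun U hU => ?_⟩
  rw [f.fromNormalization_app hU]
  refine (RingHom.finite_respectsIso.cancel_right_isIso _ _).mpr ?_
  letI : Algebra Γ(Y, U) Γ(X, f ⁻¹ᵁ U) := (f.app U).hom.toAlgebra
  haveI : IsNoetherianRing Γ(Y, U) := IsLocallyNoetherian.component_noetherian ⟨U, hU⟩
  haveI : Module.Finite Γ(Y, U) Γ(X, f ⁻¹ᵁ U) := finite_app h f U hU
  change Module.Finite Γ(Y, U) (integralClosure Γ(Y, U) Γ(X, f ⁻¹ᵁ U))
  exact Module.Finite.of_injective (integralClosure Γ(Y, U) Γ(X, f ⁻¹ᵁ U)).val.toLinearMap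
    Subtype.val_injective

/-- `O_{Y'}(π⁻¹U) → O_X(f⁻¹U)` is an isomorphism for `U` affine, `f` universally closed -/
theorem isIso_toNormalization_app {X Y : Scheme.{u}} (f : X ⟶ Y) [UniversallyClosed f]
    [QuasiCompact f] [QuasiSeparated f] (U : Y.Opens) (hU : IsAffineOpen U) :
    IsIso (f.toNormalization.app (f.fromNormalization ⁻¹ᵁ U)) := by
  have h1 := f.toNormalization_app_preimage ⟨U, hU⟩
  letI : Algebra Γ(Y, U) Γ(X, f ⁻¹ᵁ U) := (f.app U).hom.toAlgebra
  have hint : Algebra.IsIntegral Γ(Y, U) Γ(X, f ⁻¹ᵁ U) :=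
    ⟨isIntegral_app_of_universallyClosed f U hU⟩
  haveI : IsIso (CommRingCat.ofHom (integralClosure Γ(Y, U) Γ(X, f ⁻¹ᵁ U)).val.toRingHom) := by
    rw [ConcreteCategory.isIso_iff_bijective]
    refine ⟨Subtype.val_injective, fun b => ⟨⟨b, hint.isIntegral b⟩, rfl⟩⟩
  dsimp only at h1
  rw [h1]
  exact @IsIso.comp_isIso _ _ _ _ _ _ _ inferInstance
    (@IsIso.comp_isIso _ _ _ _ _ _ _ this inferInstance)

end Groth.Agent.Lead.Stein
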