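import Mathlib
import Groth.Prelude.Def_ega3

/-!
Lead library (S5735): the residue field extension of `Y' ⟶ Y` at the image of the generic point of
`X` is purely inseparable, if every element of `R(X)` algebraic over `R(Y)` is purely inseparable over
it (`X ⟶ Y' ⟶ Y` with algebraic residue field extension of `Y' ⟶ Y` at that point).
-/

set_option autoImplicit false
universe u
open CategoryTheory Limits AlgebraicGeometry Opposite TopologicalSpace IsLocalRing

namespace Groth.Agent.Lead.Stein

theorem isPurelyInseparable_residueFieldMap_of_hrad {X Y' Y : Scheme.{u}} [IsIntegral X]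
    [IsIntegral Y] (f' : X ⟶ Y') (π : Y' ⟶ Y) (f : X ⟶ Y) (w : f' ≫ π = f)
    (hdom : f.base (genericPoint X) ⤳ genericPoint Y)
    (hrad : ∀ x : X.functionField,
      (∃ q : Polynomial Y.functionField, q ≠ 0 ∧
        Polynomial.eval₂ (CohIII.stalkToFunctionField f (genericPoint Y) hdom) x q = 0) →
      ∃ e : ℕ, x ^ (ringExpChar X.functionField ^ e) ∈
        Set.range (CohIII.stalkToFunctionField f (genericPoint Y) hdom))
    (halg : ∀ a : Y'.residueField (f'.base (genericPoint X)),
      ∃ P : Polynomial (Y.residueField (π.base (f'.base (genericPoint X)))), P ≠ 0 ∧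
        Polynomial.eval₂ (π.residueFieldMap (f'.base (genericPoint X))).hom a P = 0) :
    (π.residueFieldMap (f'.base (genericPoint X))).hom.IsPurelyInseparable := by
  subst w
  set η := genericPoint X with hη
  set y₁ := f'.base η with hy₁
  set y₀ := π.base y₁ with hy₀
  have hdom' : y₀ ⤳ genericPoint Y := hdom
  have hins : Inseparable (genericPoint Y) y₀ :=
    (genericPoint_specializes y₀).antisymm hdom'
  -- the maps
  let sp : Y.presheaf.stalk (genericPoint Y) ⟶ Y.presheaf.stalk y₀ :=
    Y.presheaf.stalkSpecializes hdom'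
  have hsp : Function.Surjective sp.hom := by
    have : IsIso sp := (inferInstance : IsIso (Y.presheaf.stalkCongr hins).hom)
    exact ((ConcreteCategory.isIso_iff_bijective sp).mp this).2
  let r₀ := Y.residue y₀
  let ρ := π.residueFieldMap y₁
  let β : Y'.presheaf.stalk y₁ ⟶ CommRingCat.of X.functionField := f'.stalkMap η
  let ι : Y'.residueField y₁ ⟶ CommRingCat.of X.functionField := Scheme.descResidueField β
  let g : Y.functionField →+* Y.residueField y₀ := r₀.hom.comp sp.hom
  have hg : Function.Surjective g := (Y.residue_surjective y₀).comp hsp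
  have key : CohIII.stalkToFunctionField (f' ≫ π) (genericPoint Y) hdom =
      ι.hom.comp (ρ.hom.comp g) := by
    have h1 : (f' ≫ π).stalkMap η = π.stalkMap y₁ ≫ f'.stalkMap η := Scheme.Hom.stalkMap_comp f' π η
    have h2 : π.stalkMap y₁ ≫ f'.stalkMap η = r₀ ≫ ρ ≫ ι := by
      have e1 : Y'.residue y₁ ≫ ι = β := Scheme.residue_descResidueField β
      have e2 : r₀ ≫ ρ = π.stalkMap y₁ ≫ Y'.residue y₁ := Scheme.residue_residueFieldMap π y₁
      rw [← Category.assoc, e2, Category.assoc, e1]
    unfold CohIII.stalkToFunctionField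
    rw [h1, h2]
    rfl
  have hιinj : Function.Injective ι.hom := RingHom.injective ι.hom
  have hρinj : Function.Injective ρ.hom := RingHom.injective ρ.hom
  -- exponential characteristic
  haveI : ExpChar (Y.residueField y₀) (ringExpChar X.functionField) :=
    (ι.hom.comp ρ.hom).expChar (hιinj.comp hρinj) _
  letI : Algebra (Y.residueField y₀) (Y'.residueField y₁) := ρ.hom.toAlgebra
  change IsPurelyInseparable (Y.residueField y₀) (Y'.residueField y₁)
  rw [isPurelyInseparable_iff_pow_mem (Y.residueField y₀) (ringExpChar X.functionField)]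
  intro a
  obtain ⟨P₀, hP₀, hP₀a⟩ := halg a
  obtain ⟨P, hP⟩ := Polynomial.map_surjective g hg P₀
  have hPne : P ≠ 0 := by
    rintro rfl
    rw [Polynomial.map_zero] at hP
    exact hP₀ hP.symm
  have heval : Polynomial.eval₂ (CohIII.stalkToFunctionField (f' ≫ π) (genericPoint Y) hdom)
      (ι.hom a) P = 0 := by
    rw [key, ← Polynomial.hom_eval₂, ← Polynomial.eval₂_map, hP, hP₀a, map_zero]
  obtain ⟨e, s, hs⟩ := hrad (ι.hom a) ⟨P, hPne, heval⟩
  refine ⟨e, g s, ?_⟩
  apply hιinj
  rw [map_pow, ← hs, key]
  rfl

end Groth.Agent.Lead.Stein
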