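import Mathlib
import Groth.Agent.H54.OneDimTop

/-!
Lead library: a criterion for a morphism to be universally injective (radicial), in terms of the
generic points of the irreducible components of `Y' ×_Y Y'`.
-/

set_option autoImplicit false
universe u
open CategoryTheory Limits AlgebraicGeometry Opposite TopologicalSpace IsLocalRing

namespace Groth.Agent.Lead.Stein

variable {X Y : Scheme.{u}} (f : X ⟶ Y)

set_option backward.isDefEq.respectTransparency.types false in
set_option backward.defeqAttrib.useBackward true in
/-- two field-valued points with the same image point, the same composite with `f`, and purely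
inseparable residue field extension at that point are equal (pointwise form of Stacks 01S4) -/
theorem comp_eq_of_isPurelyInseparable (K : Type u) [Field K]
    (g₁ g₂ : Spec (CommRingCat.of K) ⟶ X) (hg : g₁ ≫ f = g₂ ≫ f)
    (e' : g₁ (closedPoint K) = g₂ (closedPoint K))
    (hf : (f.residueFieldMap (g₁ (closedPoint K))).hom.IsPurelyInseparable) : g₁ = g₂ := by
  obtain ⟨e, h⟩ := Scheme.SpecToEquivOfField_eq_iff.mp congr((Y.SpecToEquivOfField K) $(hg))
  apply (X.SpecToEquivOfField K).injective
  dsimp at e h
  simp only [Scheme.descResidueField_stalkClosedPointTo_comp] at e h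
  rw [← f.residueFieldMap_congr'_assoc e', CommRingCat.hom_ext_iff] at h
  rw [Scheme.SpecToEquivOfField_eq_iff]
  let x := g₁ (IsLocalRing.closedPoint K)
  have hfx := hf
  algebraize [(f.residueFieldMap (g₁ (IsLocalRing.closedPoint K))).hom]
  refine ⟨e', CommRingCat.hom_ext ?_⟩
  exact IsPurelyInseparable.injective_comp_algebraMap
    (Y.residueField (f x)) (X.residueField x) _ h

set_option backward.isDefEq.respectTransparency.types false in
set_option backward.defeqAttrib.useBackward true in
/-- a point of `X ×_Y X` both of whose projections are a point `x` with purely inseparable residue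
field extension lies on the diagonal -/
theorem mem_range_diagonal_of_isPurelyInseparable (z : ↥(pullback f f)) (x : X)
    (h1 : (pullback.fst f f).base z = x) (h2 : (pullback.snd f f).base z = x)
    (hf : (f.residueFieldMap x).hom.IsPurelyInseparable) :
    z ∈ Set.range (pullback.diagonal f).base := by
  let φ := (pullback f f).fromSpecResidueField z
  have hpt1 : (φ ≫ pullback.fst f f) (closedPoint ((pullback f f).residueField z)) = x := by
    rw [Scheme.Hom.comp_apply, Scheme.fromSpecResidueField_apply]
    exact h1
  have hpt2 : (φ ≫ pullback.snd f f) (closedPoint ((pullback f f).residueField z)) = x := by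
    rw [Scheme.Hom.comp_apply, Scheme.fromSpecResidueField_apply]
    exact h2
  have hφ₁ : φ ≫ pullback.fst f f = φ ≫ pullback.snd f f := by
    refine comp_eq_of_isPurelyInseparable f ((pullback f f).residueField z) _ _
      (by simp [pullback.condition]) (hpt1.trans hpt2.symm) ?_
    rw [hpt1]
    exact hf
  have hφ₂ : φ = (φ ≫ pullback.fst f f) ≫ pullback.diagonal f := by
    apply pullback.hom_ext
    · simp
    · simp [hφ₁]
  refine ⟨(φ ≫ pullback.fst f f) (IsLocalRing.closedPoint _), ?_⟩
  rw [← Scheme.Hom.comp_apply, ← hφ₂, Scheme.fromSpecResidueField_apply]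

/-- **Criterion for radiciality.** Let `π : Y' ⟶ Y` be separated and `η'` a point of `Y'` which is
the only point of its fibre, with purely inseparable residue field extension. If every generic point
of an irreducible component of `Y' ×_Y Y'` projects (second projection) to `η'`, then `π` is
universally injective. -/
theorem universallyInjective_of_genericPoints {Y' : Scheme.{u}} (π : Y' ⟶ Y) [IsSeparated π]
    (η' : Y') (hfib : π.base ⁻¹' {π.base η'} = {η'})
    (hins : (π.residueFieldMap η').hom.IsPurelyInseparable)
    (hgen : ∀ ζ ∈ genericPoints ↥(pullback π π), (pullback.snd π π).base ζ = η') :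
    UniversallyInjective π := by
  rw [UniversallyInjective.iff_diagonal]
  refine ⟨fun w => ?_⟩
  obtain ⟨ζ, hζ, hζw⟩ := Groth.Agent.H54.OneDimTop.exists_generic_specializes w
  have h2 : (pullback.snd π π).base ζ = η' := hgen ζ hζ
  have h1 : (pullback.fst π π).base ζ = η' := by
    have : (pullback.fst π π).base ζ ∈ π.base ⁻¹' {π.base η'} := by
      change π.base ((pullback.fst π π).base ζ) = π.base η'
      rw [← h2, ← Scheme.Hom.comp_apply, ← Scheme.Hom.comp_apply, pullback.condition]
    rw [hfib] at this
    exact this
  have hmem := mem_range_diagonal_of_isPurelyInseparable π ζ η' h1 h2 hins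
  have hcl : IsClosed (Set.range (pullback.diagonal π).base) :=
    (pullback.diagonal π).isClosedEmbedding.isClosed_range
  exact hζw.mem_closed hcl hmem

end Groth.Agent.Lead.Stein
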