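import Mathlib
import Groth.Agent.Lead.Stein.ClosedFibre
import Groth.Agent.H18.HH0Sections

/-!
Lead library: **Zariski's connectedness theorem, local form.**  Let `A` be a local ring, `X` a scheme
over `Spec A` such that `A → Γ(X, O_X)` is surjective and such that the canonical map
`H^0(X, O_X) → lim_n H^0(X, O_X / m^{n+1} O_X)` is surjective (theorem on formal functions, for `A`
complete Noetherian and `X` proper).  Then the closed fibre of `X` is preconnected.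
-/

set_option autoImplicit false
universe u
open CategoryTheory Limits AlgebraicGeometry Opposite TopologicalSpace

namespace Groth.Agent.Lead.Stein

open Groth.Agent.H18 Groth.Agent.H70.Rees Groth.Agent.Lead.SubRange

variable {A : Type u} [CommRing A] {X : Scheme.{u}} [X.Over (Spec (CommRingCat.of A))]

/-- a unit of `Γ(X, O_X)` whose class in `O / m O` vanishes on a neighbourhood of a point of the closed
fibre: impossible -/
theorem false_of_isUnit_of_mres_eq_zero [IsLocalRing A]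
    [(Coh.structureModule X).IsQuasicoherent]
    (u : Γ(Coh.structureModule X, ⊤)) (hu : IsUnit (show Γ(X, ⊤) from u))
    (V : X.Opens) (z : X) (hzV : z ∈ V) (hz : z ∈ closedFibre A X)
    (h : mres (Formal.modPow (IsLocalRing.maximalIdeal A) 1 (Coh.structureModule X))
      (le_top : V ≤ ⊤)
      ((Formal.modPowπ (IsLocalRing.maximalIdeal A) 1 (Coh.structureModule X)).app ⊤ u) = 0) :
    False := by
  obtain ⟨_, ⟨W, hW, rfl⟩, hzW, hWV⟩ :=
    X.isBasis_affineOpens.exists_subset_of_mem_open hzV V.2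
  have hWV' : W ≤ V := hWV
  have h1 : (Formal.modPowπ (IsLocalRing.maximalIdeal A) 1 (Coh.structureModule X)).app W
      (mres (Coh.structureModule X) (le_top : W ≤ ⊤) u) = 0 := by
    rw [app_mres]
    have e : mres (Formal.modPow (IsLocalRing.maximalIdeal A) 1 (Coh.structureModule X))
        (le_top : W ≤ ⊤)
        ((Formal.modPowπ (IsLocalRing.maximalIdeal A) 1 (Coh.structureModule X)).app ⊤ u) =
        mres _ hWV' (mres _ (le_top : V ≤ ⊤)
          ((Formal.modPowπ (IsLocalRing.maximalIdeal A) 1 (Coh.structureModule X)).app ⊤ u)) := by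
      rw [mres_mres]
    rw [e, h, map_zero]
  have h2 := mem_primeIdealOf_of_modPowπ_app_eq_zero (IsLocalRing.maximalIdeal A) le_rfl hW z hzW
    hz _ h1
  have h3 : IsUnit (show Γ(X, W) from mres (Coh.structureModule X) (le_top : W ≤ ⊤) u) :=
    hu.map (X.presheaf.map (homOfLE (le_top : W ≤ ⊤)).op).hom
  exact (hW.primeIdealOf ⟨z, hzW⟩).isPrime.ne_top (Ideal.eq_top_of_isUnit_mem _ h2 h3)

section Main

variable [IsLocalRing A]

local notation "𝔪" => IsLocalRing.maximalIdeal A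
local notation "𝒪" => Coh.structureModule X

/-- the unit section -/
noncomputable def oneSec : Γ(𝒪, ⊤) := (1 : Γ(X, ⊤))

/-- the class of `1` in `O / m^{n+1} O` vanishes over opens missing the closed fibre -/
theorem mres_modPowπ_one_eq_zero (n : ℕ) (V : X.Opens) (hV : Disjoint (V : Set X) (closedFibre A X))
    (s : Γ(𝒪, ⊤)) :
    mres (Formal.modPow 𝔪 n 𝒪) (le_top : V ≤ ⊤) ((Formal.modPowπ 𝔪 n 𝒪).app ⊤ s) = 0 := by
  refine sec_eq_zero_of_locally _ V _ (fun x hx => ?_)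
  have hx' : x ∉ closedFibre A X := fun h => (Set.disjoint_left.mp hV) hx h
  obtain ⟨a, ha, hxa⟩ := exists_mem_basicOpen_of_notMem_closedFibre x hx'
  refine ⟨V ⊓ X.basicOpen (Coh.toGlobal (X ↘ Spec (CommRingCat.of A)) a), inf_le_left,
    ⟨hx, hxa⟩, ?_⟩
  rw [mres_mres, ← app_mres]
  exact modPowπ_app_eq_zero_of_le_basicOpen 𝔪 n 𝒪 a ha inf_le_right _

/-- `H^0(X, M) ≃ Γ(X, M)`, typed on sections -/
noncomputable def h0Equiv (M : X.Modules) : Coh.HH X M 0 ≃+ Γ(M, ⊤) :=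
  Sheaf.H.equiv₀ (Coh.toAb M) (isTerminalTop : IsTerminal (⊤ : X.Opens))

theorem h0Equiv_map {M N : X.Modules} (φ : M ⟶ N) (x : Coh.HH X M 0) :
    h0Equiv N (Sheaf.H.map ((SheafOfModules.toSheaf _).map φ) 0 x) = φ.app ⊤ (h0Equiv M x) :=
  (Sheaf.H.equiv₀_naturality isTerminalTop ((SheafOfModules.toSheaf _).map φ) x).symm

theorem h0Equiv_symm_map {M N : X.Modules} (φ : M ⟶ N) (s : Γ(M, ⊤)) :
    Sheaf.H.map ((SheafOfModules.toSheaf _).map φ) 0 ((h0Equiv M).symm s) =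
      (h0Equiv N).symm (φ.app ⊤ s) :=
  Sheaf.H.equiv₀_symm_naturality isTerminalTop ((SheafOfModules.toSheaf _).map φ) s

/-- **Zariski's connectedness theorem, local form.** -/
theorem isPreconnected_closedFibre [(𝒪).IsQuasicoherent]
    (hFF : Function.Surjective (Formal.toHHlim 𝔪 𝒪 0))
    (hΓ : Function.Surjective (Coh.toGlobal (X ↘ Spec (CommRingCat.of A)))) :
    _root_.IsPreconnected (closedFibre A X) := by
  rw [isPreconnected_closed_iff]
  rintro Z₁ Z₂ hZ₁ hZ₂ hcov ⟨z₁, hz₁T, hz₁⟩ ⟨z₂, hz₂T, hz₂⟩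
  by_contra hne
  rw [Set.not_nonempty_iff_eq_empty] at hne
  have hT : IsClosed (closedFibre A X) := isClosed_closedFibre
  let U₁ : X.Opens := ⟨(closedFibre A X ∩ Z₂)ᶜ, (hT.inter hZ₂).isOpen_compl⟩
  let U₂ : X.Opens := ⟨(closedFibre A X ∩ Z₁)ᶜ, (hT.inter hZ₁).isOpen_compl⟩
  have hU : U₁ ⊔ U₂ = ⊤ := by
    ext x
    simp only [Opens.coe_sup, Opens.coe_top, Set.mem_univ, iff_true]
    by_contra hx
    rw [Set.mem_union, not_or] at hx
    have h1 : x ∈ closedFibre A X ∩ Z₂ := not_not.mp hx.1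
    have h2 : x ∈ closedFibre A X ∩ Z₁ := not_not.mp hx.2
    have : x ∈ closedFibre A X ∩ (Z₁ ∩ Z₂) := ⟨h1.1, h2.2, h1.2⟩
    rw [hne] at this
    exact this
  have hdisj : Disjoint ((U₁ ⊓ U₂ : X.Opens) : Set X) (closedFibre A X) := by
    rw [Set.disjoint_left]
    rintro x ⟨hx1, hx2⟩ hxT
    rcases hcov hxT with h | h
    · exact hx2 ⟨hxT, h⟩
    · exact hx1 ⟨hxT, h⟩
  have hz₁U : z₁ ∈ U₁ := fun h => by
    have : z₁ ∈ closedFibre A X ∩ (Z₁ ∩ Z₂) := ⟨hz₁T, hz₁, h.2⟩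
    rw [hne] at this
    exact this
  have hz₂U : z₂ ∈ U₂ := fun h => by
    have : z₂ ∈ closedFibre A X ∩ (Z₁ ∩ Z₂) := ⟨hz₂T, h.2, hz₂⟩
    rw [hne] at this
    exact this
  -- the idempotent sections
  have hcompat : ∀ n : ℕ, mres (Formal.modPow 𝔪 (n + 1) 𝒪) (inf_le_left : U₁ ⊓ U₂ ≤ U₁)
      (mres (Formal.modPow 𝔪 (n + 1) 𝒪) (le_top : U₁ ≤ ⊤)
        ((Formal.modPowπ 𝔪 (n + 1) 𝒪).app ⊤ oneSec)) =
      mres (Formal.modPow 𝔪 (n + 1) 𝒪) (inf_le_right : U₁ ⊓ U₂ ≤ U₂) 0 := by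
    intro n
    rw [mres_mres, map_zero]
    exact mres_modPowπ_one_eq_zero (n + 1) (U₁ ⊓ U₂) hdisj oneSec
  choose e he₁ he₂ using fun n : ℕ => exists_glue₂ (Formal.modPow 𝔪 (n + 1) 𝒪) U₁ U₂ hU _ 0
    (hcompat n)
  have hτ : ∀ n : ℕ, (Formal.modPowTrans 𝔪 (n + 1) 𝒪).app ⊤ (e (n + 1)) = e n := by
    intro n
    have key : (Formal.modPowTrans 𝔪 (n + 1) 𝒪).app ⊤
        ((Formal.modPowπ 𝔪 (n + 1 + 1) 𝒪).app ⊤ oneSec) =
        (Formal.modPowπ 𝔪 (n + 1) 𝒪).app ⊤ oneSec := by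
      rw [← ConcreteCategory.comp_apply, ← Scheme.Modules.Hom.comp_app, Formal.modPowπ_trans]
    refine sec_ext₂ _ U₁ U₂ hU _ _ ?_ ?_
    · rw [← app_mres, he₁, he₁, app_mres, key]
    · rw [← app_mres, he₂, he₂, map_zero]
  -- the compatible family in cohomology
  let y : ∀ n : ℕ, Formal.HHmodPow 𝔪 𝒪 0 n := fun n => (h0Equiv _).symm (e n)
  have hy : y ∈ Formal.HHlim 𝔪 𝒪 0 := by
    intro n
    change Sheaf.H.map ((SheafOfModules.toSheaf _).map (Formal.modPowTrans 𝔪 (n + 1) 𝒪)) 0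
      ((h0Equiv _).symm (e (n + 1))) = (h0Equiv _).symm (e n)
    rw [h0Equiv_symm_map, hτ]
  obtain ⟨x₀, hx₀⟩ := hFF ⟨y, hy⟩
  have hb : ∀ n : ℕ, (Formal.modPowπ 𝔪 (n + 1) 𝒪).app ⊤ (h0Equiv 𝒪 x₀) = e n := by
    intro n
    rw [← h0Equiv_map]
    have h1 : Formal.toHHmodPow 𝔪 𝒪 0 n x₀ = y n := congrArg (fun t => t.1 n) hx₀
    change h0Equiv _ (Formal.toHHmodPow 𝔪 𝒪 0 n x₀) = e n
    rw [h1]
    exact (h0Equiv _).apply_symm_apply (e n)
  obtain ⟨β, hβ⟩ := hΓ (show Γ(X, ⊤) from h0Equiv 𝒪 x₀)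
  by_cases hβm : β ∈ 𝔪
  · -- the class of `b` in `O / m O` vanishes, hence so does that of `1` near `z₁`
    have h0 : (Formal.modPowπ 𝔪 (0 + 1) 𝒪).app ⊤ (h0Equiv 𝒪 x₀) = 0 := by
      have h1 : h0Equiv 𝒪 x₀ = (Formal.smulMod A 𝒪 β).app ⊤ oneSec := by
        rw [smulMod_app_apply]
        change _ = toSections X ⊤ β * (1 : Γ(X, ⊤))
        rw [mul_one]
        change _ = (X.presheaf.map (𝟙 _)).hom (Coh.toGlobal (X ↘ Spec (CommRingCat.of A)) β)
        rw [CategoryTheory.Functor.map_id]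
        exact hβ.symm
      rw [h1, ← ConcreteCategory.comp_apply, ← Scheme.Modules.Hom.comp_app,
        Groth.Agent.H44.smulMod_comp_modPowπ_of_mem 𝔪 (0 + 1) 𝒪 β (by simpa using hβm)]
      rfl
    have h2 : e 0 = 0 := (hb 0).symm.trans h0
    refine false_of_isUnit_of_mres_eq_zero oneSec isUnit_one U₁ z₁ hz₁U hz₁T ?_
    have h3 := he₁ 0
    rw [h2, map_zero] at h3
    exact h3.symm
  · have hunit : IsUnit (show Γ(X, ⊤) from h0Equiv 𝒪 x₀) := by
      rw [← hβ]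
      exact (IsLocalRing.notMem_maximalIdeal.mp hβm).map _
    refine false_of_isUnit_of_mres_eq_zero (h0Equiv 𝒪 x₀) hunit U₂ z₂ hz₂U hz₂T ?_
    have h3 := he₂ 0
    rw [← hb 0] at h3
    exact h3

end Main

end Groth.Agent.Lead.Stein
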